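import Cfsg.Agent.Lib.WrD8.Lift
import Cfsg.Agent.Lib.SectionalRank.Basic

/-!
# `D₈ ≀ C₂` as a proper normal subgroup of a 2-group of sectional rank at most four
-/

set_option autoImplicit false

namespace Cfsg.Agent.Lib.WrD8

open DihedralGroup Subgroup Wr

/-- The centre of the base, as a subgroup. -/
def z4Sub : Subgroup Wr where
  carrier := {x | InZ4 x}
  one_mem' := by decide
  mul_mem' := by
    rintro ⟨a, b, s⟩ ⟨a', b', s'⟩ ⟨h, ha, hb⟩ ⟨h', ha', hb'⟩
    simp only at h h' ha hb ha' hb'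
    subst h h'
    rcases ha with rfl | rfl <;> rcases hb with rfl | rfl <;> rcases ha' with rfl | rfl <;>
      rcases hb' with rfl | rfl <;> decide
  inv_mem' := by
    rintro ⟨a, b, s⟩ ⟨h, ha, hb⟩
    simp only at h ha hb
    subst h
    rcases ha with rfl | rfl <;> rcases hb with rfl | rfl <;> decide

theorem mem_z4Sub {x : Wr} : x ∈ z4Sub ↔ InZ4 x := Iff.rfl

instance (x : Wr) : Decidable (x ∈ z4Sub) := inferInstanceAs (Decidable (InZ4 x))

theorem z4_cases {x : Wr} (h : InZ4 x) : x = 1 ∨ x = C1 ∨ x = C2 ∨ x = Z := by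
  obtain ⟨a, b, s⟩ := x
  obtain ⟨hs, ha, hb⟩ := h
  simp only at hs ha hb
  subst hs
  rcases ha with rfl | rfl <;> rcases hb with rfl | rfl <;> decide

/-- Equality modulo the centre of the base, coordinatewise. -/
theorem cong_half : ∀ a b : Dih, (b⁻¹ * a = 1 ∨ b⁻¹ * a = r 2) → a = b ∨ a = b * r 2 := by decide

theorem cong_cases {a b a' b' : Dih} {x : Wr} (hx : InZ4 ((⟨a', b', false⟩ : Wr)⁻¹ * x))
    (ha : a = a') (hb : b = b') :
    x.s = false ∧ (x.a = a ∨ x.a = a * r 2) ∧ (x.b = b ∨ x.b = b * r 2) := by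
  obtain ⟨p, q, s⟩ := x
  subst ha hb
  rw [show (⟨a, b, false⟩ : Wr)⁻¹ = ⟨a⁻¹, b⁻¹, false⟩ from rfl, mul_false] at hx
  exact ⟨hx.1, cong_half p a hx.2.1, cong_half q b hx.2.2⟩

theorem adjust : ∀ x v : Dih, (x = r 1 ∨ x = r 1 * r 2) → (v = sr 1 ∨ v = sr 1 * r 2) →
    ∃ a, a * x * a⁻¹ = r 1 ∧ a * v * a⁻¹ = sr 1 := by decide

theorem half_conj_r : ∀ a : Dih, a * r 1 * a⁻¹ = r 1 → a * sr 0 * a⁻¹ = sr 2 →
    a = r 1 ∨ a = r 3 := by decide

theorem half_conj_sr : ∀ a : Dih, a * r 1 * a⁻¹ = r 1 → a * sr 1 * a⁻¹ = sr 1 →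
    a = 1 ∨ a = r 2 := by decide

theorem z4_conj {c : Wr} (hc : InZ4 c) : ∀ x : Wr, InZ4 (x⁻¹ * c * x) := by
  rcases z4_cases hc with rfl | rfl | rfl | rfl <;> exact forall_iff.2 (by decide)

theorem central_conj : ∀ a h : Dih, (h = 1 ∨ h = 1 * r 2) → a * h * a⁻¹ = h := by decide

/-- Representatives of the base modulo its centre. -/
def rep (t : (Bool × Bool) × Bool × Bool) : Wr :=
  let f : Bool × Bool → Dih := fun p =>
    (if p.1 then r 1 else 1) * (if p.2 then sr 0 else 1)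
  ⟨f t.1, f t.2, false⟩

theorem rep_inj : ∀ s t, InZ4 ((rep s)⁻¹ * rep t) → s = t := by decide

section Embedded

variable {G : Type*} [Group G] (ψ : Wr →* G) (hψ : Function.Injective ψ) [hN : ψ.range.Normal]

/-- Conjugation by `g`, pulled back to the model. -/
noncomputable def conjf (g : G) : Wr →* Wr :=
  (MonoidHom.ofInjective hψ).symm.toMonoidHom.comp
    ((MulAut.conjNormal g : MulAut ψ.range).toMonoidHom.comp
      (MonoidHom.ofInjective hψ).toMonoidHom)

theorem conjf_spec (g : G) (x : Wr) : ψ (conjf ψ hψ g x) = g * ψ x * g⁻¹ := by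
  simp [conjf, MonoidHom.ofInjective_apply]

include hψ

theorem conjf_comp (g h : G) (x : Wr) :
    conjf ψ hψ (g * h) x = conjf ψ hψ g (conjf ψ hψ h x) := hψ (by simp [conjf_spec, mul_assoc])

theorem conjf_self (x y : Wr) : conjf ψ hψ (ψ x) y = x * y * x⁻¹ := hψ (by simp [conjf_spec])

theorem conjf_inj (g : G) : Function.Injective (conjf ψ hψ g) := fun x y h => by
  have := congrArg ψ h
  rw [conjf_spec, conjf_spec] at this
  exact hψ (mul_left_cancel (mul_right_cancel this))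

theorem conjf_inv (g : G) (x : Wr) : conjf ψ hψ g (conjf ψ hψ g⁻¹ x) = x :=
  hψ (by simp [conjf_spec, mul_assoc])

theorem conjf_Z (g : G) : conjf ψ hψ g Z = Z := by
  have hc : ∀ y, conjf ψ hψ g Z * y = y * conjf ψ hψ g Z := fun y => by
    rw [← conjf_inv ψ hψ g y, ← map_mul, ← map_mul, Z_commute]
  exact (eq_one_or_Z_of_commute _ (hc _) (hc _) (hc _)).resolve_left fun h =>
    Z_ne_one (conjf_inj ψ hψ g (h.trans (map_one _).symm))

theorem conjf_C1 (g : G) : conjf ψ hψ g C1 = C1 ∨ conjf ψ hψ g C1 = C2 := by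
  have hc : ∀ y, y * conjf ψ hψ g C1 * y⁻¹ = conjf ψ hψ g C1 ∨
      y * conjf ψ hψ g C1 * y⁻¹ = conjf ψ hψ g C1 * Z := fun y => by
    rw [← conjf_inv ψ hψ g y]
    rcases commutator_C1 (conjf ψ hψ g⁻¹ y) with h | h
    · left; rw [← map_inv, ← map_mul, ← map_mul, h]
    · right; rw [← map_inv, ← map_mul, ← map_mul, h, map_mul, conjf_Z ψ hψ]
  rcases inZ4_of_commutator _ (hc _) (hc _) (hc _) with h | h | h | h
  · exact absurd (conjf_inj ψ hψ g (h.trans (map_one _).symm)) (by decide)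
  · exact Or.inl h
  · exact Or.inr h
  · exact absurd (conjf_inj ψ hψ g (h.trans (conjf_Z ψ hψ g).symm)) (by decide)

theorem conjf_C2 (g : G) (h : conjf ψ hψ g C1 = C1) : conjf ψ hψ g C2 = C2 := by
  rw [show C2 = C1 * Z by decide, map_mul, conjf_Z ψ hψ, h]

theorem conjf_z4_fix (g : G) (h : conjf ψ hψ g C1 = C1) {x : Wr} (hx : InZ4 x) :
    conjf ψ hψ g x = x := by
  rcases z4_cases hx with rfl | rfl | rfl | rfl
  · exact map_one _
  · exact h
  · exact conjf_C2 ψ hψ g h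
  · exact conjf_Z ψ hψ g

theorem z4_map_normal : (z4Sub.map ψ).Normal := by
  refine ⟨?_⟩
  rintro _ ⟨x, hx, rfl⟩ g
  refine ⟨conjf ψ hψ g x, ?_, conjf_spec ψ hψ g x⟩
  show InZ4 _
  rcases z4_cases hx with rfl | rfl | rfl | rfl
  · rw [map_one]; decide
  · rcases conjf_C1 ψ hψ g with h | h <;> rw [h] <;> decide
  · rw [show C2 = C1 * Z by decide, map_mul, conjf_Z ψ hψ]
    rcases conjf_C1 ψ hψ g with h | h <;> rw [h] <;> decide
  · rw [conjf_Z ψ hψ]; decide

/-- `g` fixes `C1` and is trivial on the base modulo its centre. -/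
def Keep (g : G) : Prop :=
  conjf ψ hψ g C1 = C1 ∧ ∀ x ∈ [R1, S1, R2, S2], InZ4 (x⁻¹ * conjf ψ hψ g x)

/-- `g` fixes `C1` and flips both `S`'s modulo the centre of the base. -/
def Flip (g : G) : Prop :=
  conjf ψ hψ g C1 = C1 ∧ InZ4 (R1⁻¹ * conjf ψ hψ g R1) ∧ InZ4 (R2⁻¹ * conjf ψ hψ g R2) ∧
    InZ4 ((S1 * R1)⁻¹ * conjf ψ hψ g S1) ∧ InZ4 ((S2 * R2)⁻¹ * conjf ψ hψ g S2)

theorem keep_or_flip (g : G) (hg : conjf ψ hψ g C1 = C1) : Keep ψ hψ g ∨ Flip ψ hψ g := by
  have hsq : ∀ x y : Wr, x * x = y → conjf ψ hψ g x * conjf ψ hψ g x = conjf ψ hψ g y :=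
    fun x y h => by rw [← map_mul, h]
  have hx := (hsq R1 C1 (by decide)).trans hg
  have hu := (hsq R2 C2 (by decide)).trans (conjf_C2 ψ hψ g hg)
  have hxu : conjf ψ hψ g R1 * conjf ψ hψ g R2 = conjf ψ hψ g R2 * conjf ψ hψ g R1 := by
    rw [← map_mul, ← map_mul, show R1 * R2 = R2 * R1 by decide]
  have hv := (hsq S1 1 (by decide)).trans (map_one _)
  have hvC : conjf ψ hψ g S1 * C1 * (conjf ψ hψ g S1)⁻¹ = C1 := by
    conv_lhs => rw [← hg]
    rw [← map_inv, ← map_mul, ← map_mul, show S1 * C1 * S1⁻¹ = C1 by decide, hg]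
  have hvx : conjf ψ hψ g S1 * conjf ψ hψ g R1 * (conjf ψ hψ g S1)⁻¹ = (conjf ψ hψ g R1)⁻¹ := by
    rw [← map_inv, ← map_mul, ← map_mul, ← map_inv, show S1 * R1 * S1⁻¹ = R1⁻¹ by decide]
  have hvu : conjf ψ hψ g S1 * conjf ψ hψ g R2 = conjf ψ hψ g R2 * conjf ψ hψ g S1 := by
    rw [← map_mul, ← map_mul, show S1 * R2 = R2 * S1 by decide]
  obtain ⟨hxs, hus, hxa, hxb, hua, hub⟩ := R_cases _ _ hx hu hxu
  obtain ⟨hvs, hva, hvb⟩ := S_cases _ _ _ hx hu hxu hv hvC hvx hvu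
  have hR1 : InZ4 (R1⁻¹ * conjf ψ hψ g R1) := by
    revert hxs hxa hxb
    generalize conjf ψ hψ g R1 = x
    rcases x with ⟨a, b, s⟩
    intro hs ha hb
    simp only at hs ha hb
    subst hs
    rcases ha with rfl | rfl <;> rcases hb with rfl | rfl <;> decide
  have hR2 : InZ4 (R2⁻¹ * conjf ψ hψ g R2) := by
    revert hus hua hub
    generalize conjf ψ hψ g R2 = x
    rcases x with ⟨a, b, s⟩
    intro hs ha hb
    simp only at hs ha hb
    subst hs
    rcases ha with rfl | rfl <;> rcases hb with rfl | rfl <;> decide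
  -- the images of `S1` and `S2` agree through the swap
  have hy : (W * conjf ψ hψ g W).s = false := by
    refine (s_eq_false_iff _).1 ?_
    calc W * conjf ψ hψ g W * C1 * (W * conjf ψ hψ g W)⁻¹
        = W * (conjf ψ hψ g W * conjf ψ hψ g C1 * (conjf ψ hψ g W)⁻¹) * W⁻¹ := by
          rw [hg]; group
      _ = C1 := by
          rw [← map_inv, ← map_mul, ← map_mul, show W * C1 * W⁻¹ = C2 by decide,
            conjf_C2 ψ hψ g hg]
          decide
  have hS2 : InZ4 ((W * conjf ψ hψ g S1 * W⁻¹)⁻¹ * conjf ψ hψ g S2) := by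
    have h1 : conjf ψ hψ g S2 = W⁻¹ * ((W * conjf ψ hψ g W) * conjf ψ hψ g S1 *
        (W * conjf ψ hψ g W)⁻¹) * W := by
      rw [show S2 = W * S1 * W⁻¹ by decide, map_mul, map_mul, map_inv]
      group
    have h2 := inZ4_commutator _ _ (show (W * conjf ψ hψ g W).s = false from hy) hvs
    rw [h1]
    set c := (W * conjf ψ hψ g W) * conjf ψ hψ g S1 * (W * conjf ψ hψ g W)⁻¹ *
      (conjf ψ hψ g S1)⁻¹ with hc
    rw [show (W * conjf ψ hψ g W) * conjf ψ hψ g S1 * (W * conjf ψ hψ g W)⁻¹ =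
      c * conjf ψ hψ g S1 by rw [hc]; group, show W⁻¹ = W by decide]
    revert h2 hvs
    generalize conjf ψ hψ g S1 = v
    intro hvs h2
    have h3 : (W * v * W)⁻¹ * (W * (c * v) * W) = W⁻¹ * (v⁻¹ * c * v) * W := by group
    rw [h3]
    exact z4_conj (z4_conj h2 v) W
  rcases hva with hva | hva
  · left
    refine ⟨hg, ?_⟩
    have hS1 : InZ4 (S1⁻¹ * conjf ψ hψ g S1) ∧ InZ4 (S2⁻¹ * conjf ψ hψ g S2) := by
      revert hS2
      revert hvb
      revert hva
      revert hvs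
      generalize conjf ψ hψ g S1 = v
      generalize conjf ψ hψ g S2 = v'
      rcases v with ⟨a, b, s⟩
      intro hs ha hb h
      simp only at hs ha hb
      subst hs
      have e : S2⁻¹ * v' = (S2⁻¹ * (W * ⟨a, b, false⟩ * W⁻¹)) * ((W * ⟨a, b, false⟩ * W⁻¹)⁻¹ * v') := by
        group
      rw [e]
      rcases ha with rfl | rfl <;> rcases hb with rfl | rfl <;>
        exact ⟨by decide, z4Sub.mul_mem (by decide) h⟩
    intro x hx
    fin_cases hx
    exacts [hR1, hS1.1, hR2, hS1.2]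
  · right
    have hS1 : InZ4 ((S1 * R1)⁻¹ * conjf ψ hψ g S1) ∧ InZ4 ((S2 * R2)⁻¹ * conjf ψ hψ g S2) := by
      revert hS2
      revert hvb
      revert hva
      revert hvs
      generalize conjf ψ hψ g S1 = v
      generalize conjf ψ hψ g S2 = v'
      rcases v with ⟨a, b, s⟩
      intro hs ha hb h
      simp only at hs ha hb
      subst hs
      have e : (S2 * R2)⁻¹ * v' =
          ((S2 * R2)⁻¹ * (W * ⟨a, b, false⟩ * W⁻¹)) * ((W * ⟨a, b, false⟩ * W⁻¹)⁻¹ * v') := by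
        group
      rw [e]
      rcases ha with rfl | rfl <;> rcases hb with rfl | rfl <;>
        exact ⟨by decide, z4Sub.mul_mem (by decide) h⟩
    exact ⟨hg, hR1, hR2, hS1⟩

theorem flip_mul_flip (g h : G) (hg : Flip ψ hψ g) (hh : Flip ψ hψ h) : Keep ψ hψ (g * h) := by
  obtain ⟨hg, g1, g2, g3, g4⟩ := hg
  obtain ⟨hh, h1, h2, h3, h4⟩ := hh
  have step : ∀ x y : Wr, InZ4 (y⁻¹ * conjf ψ hψ h x) →
      (conjf ψ hψ g y)⁻¹ * conjf ψ hψ (g * h) x = y⁻¹ * conjf ψ hψ h x := fun x y hy => by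
    rw [conjf_comp, ← map_inv, ← map_mul, conjf_z4_fix ψ hψ g hg hy]
  refine ⟨by rw [conjf_comp, hh, hg], fun x hx => ?_⟩
  have base : ∀ (x y : Wr), InZ4 (y⁻¹ * conjf ψ hψ h x) → InZ4 (x⁻¹ * conjf ψ hψ g y) →
      InZ4 (x⁻¹ * conjf ψ hψ (g * h) x) := fun x y hy hx => by
    have := z4Sub.mul_mem (mem_z4Sub.2 hx) (mem_z4Sub.2 ((step x y hy).symm ▸ hy))
    rwa [mul_assoc, ← mul_assoc (conjf ψ hψ g y), mul_inv_cancel, one_mul] at this
  have prod : ∀ (A B : Wr), A.s = false → B.s = false → InZ4 ((A * B)⁻¹ * conjf ψ hψ g A) →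
      InZ4 (B⁻¹ * conjf ψ hψ g B) → InZ4 ((A * B * B)⁻¹ * conjf ψ hψ g (A * B)) := by
    intro A B hA hB e1 e2
    have h5 : (A * B * B)⁻¹ * conjf ψ hψ g (A * B) =
        B⁻¹ * ((A * B)⁻¹ * conjf ψ hψ g A) * B * (B⁻¹ * conjf ψ hψ g B) := by
      rw [map_mul]; group
    rw [h5]
    refine z4Sub.mul_mem ?_ e2
    have h6 := inZ4_commutator B⁻¹ ((A * B)⁻¹ * conjf ψ hψ g A)
      (by rw [show B = ⟨B.a, B.b, B.s⟩ from rfl, hB]; rfl) e1.1
    have h7 : B⁻¹ * ((A * B)⁻¹ * conjf ψ hψ g A) * B =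
        (B⁻¹ * ((A * B)⁻¹ * conjf ψ hψ g A) * B⁻¹⁻¹ * ((A * B)⁻¹ * conjf ψ hψ g A)⁻¹) *
          ((A * B)⁻¹ * conjf ψ hψ g A) := by group
    rw [h7]
    exact z4Sub.mul_mem h6 e1
  fin_cases hx
  · exact base R1 R1 h1 g1
  · refine base S1 (S1 * R1) h3 ?_
    have h5 := z4Sub.mul_mem (show S1⁻¹ * (S1 * R1 * R1) ∈ z4Sub from (by decide : InZ4 _))
      (prod S1 R1 rfl rfl g3 g1)
    rwa [mul_assoc, ← mul_assoc (S1 * R1 * R1), mul_inv_cancel, one_mul] at h5
  · exact base R2 R2 h2 g2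
  · refine base S2 (S2 * R2) h4 ?_
    have h5 := z4Sub.mul_mem (show S2⁻¹ * (S2 * R2 * R2) ∈ z4Sub from (by decide : InZ4 _))
      (prod S2 R2 rfl rfl g4 g2)
    rwa [mul_assoc, ← mul_assoc (S2 * R2 * R2), mul_inv_cancel, one_mul] at h5

theorem not_keep_of_flip (g : G) (hg : Flip ψ hψ g) : ¬ Keep ψ hψ g := fun hk => by
  have h1 := hk.2 S1 (by simp)
  have h2 := hg.2.2.2.1
  have h3 := z4Sub.mul_mem (mem_z4Sub.2 h1) (z4Sub.inv_mem (mem_z4Sub.2 h2))
  rw [_root_.mul_inv_rev, inv_inv, mul_assoc, ← mul_assoc (conjf ψ hψ g S1), mul_inv_cancel,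
    one_mul] at h3
  exact absurd h3 (show ¬ InZ4 _ by decide)

theorem exists_flip_shape (g : G) (hg : conjf ψ hψ g C1 = C1) (hk : ¬ Keep ψ hψ g) :
    Flip ψ hψ g :=
  (keep_or_flip ψ hψ g hg).resolve_left hk

theorem keep_mem_base [Finite G] (h2 : IsPGroup 2 G) (hr : Cfsg.SectionalPRankLE 2 4 G) (g : G)
    (hg : Keep ψ hψ g) : ∃ x, x.s = false ∧ ψ x = g := by
  classical
  have := z4_map_normal ψ hψ
  let π := QuotientGroup.mk' (z4Sub.map ψ)
  have hker : ∀ x : Wr, π (ψ x) = 1 ↔ InZ4 x := fun x => by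
    rw [QuotientGroup.mk'_apply, QuotientGroup.eq_one_iff]
    exact mem_map_iff_mem hψ
  let C : Subgroup (G ⧸ z4Sub.map ψ) :=
    centralizer (((fun x => π (ψ x)) '' {R1, S1, R2, S2}) : Set (G ⧸ z4Sub.map ψ))
  let K : Subgroup G := C.comap π ⊓ centralizer ({ψ C1} : Set G)
  have hK : ∀ y, y ∈ K ↔ Keep ψ hψ y := fun y => by
    have hc : ∀ x, π (ψ x) * π y = π y * π (ψ x) ↔ InZ4 (x⁻¹ * conjf ψ hψ y x) := fun x => by
      rw [← hker, map_mul, map_mul, conjf_spec, map_mul, map_mul, map_inv, map_inv, map_inv,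
        inv_mul_eq_one, eq_mul_inv_iff_mul_eq]
    have hC : ∀ u : G, u ∈ centralizer ({ψ C1} : Set G) ↔ conjf ψ hψ u C1 = C1 := fun u => by
      simp only [mem_centralizer_iff, Set.mem_singleton_iff, forall_eq]
      rw [← hψ.eq_iff, conjf_spec,
        mul_inv_eq_iff_eq_mul]
      exact eq_comm
    refine ⟨fun ⟨h1, h2⟩ => ⟨(hC y).1 h2, fun x hx => (hc x).1 ?_⟩, fun ⟨h1, h2⟩ => ⟨?_, (hC y).2 h1⟩⟩
    · exact mem_centralizer_iff.1 h1 _ ⟨x, by simpa using hx, rfl⟩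
    · refine mem_centralizer_iff.2 ?_
      rintro _ ⟨x, hx, rfl⟩
      exact (hc x).2 (h2 x (by simpa using hx))
  have hbase : ∀ x : Wr, x.s = false → ψ x ∈ K := fun x hx => by
    refine (hK _).2 ⟨?_, fun u hu => ?_⟩
    · rw [conjf_self]; exact (s_eq_false_iff x).2 hx
    · rw [conjf_self]
      have hus : u.s = false := by fin_cases hu <;> rfl
      have h1 := inZ4_commutator x u hx hus
      have h2 : u⁻¹ * (x * u * x⁻¹) = u⁻¹ * (x * u * x⁻¹ * u⁻¹) * u := by group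
      rw [h2]
      rcases z4_cases h1 with e | e | e | e <;> rw [e] <;> revert hu <;>
        simp only [List.mem_cons, List.not_mem_nil, or_false] <;>
        rintro (rfl | rfl | rfl | rfl) <;> decide
  by_contra hcon
  -- an element of `K` outside the base with square inside
  obtain ⟨y, hyK, hy, t, hts, hty⟩ : ∃ y ∈ K, (¬ ∃ x, x.s = false ∧ ψ x = y) ∧
      ∃ t : Wr, t.s = false ∧ ψ t = y * y := by
    obtain ⟨j, hj⟩ := h2 g
    have hgK := (hK g).2 hg
    clear hg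
    induction j generalizing g with
    | zero => exact absurd ⟨1, rfl, by simpa using hj.symm⟩ hcon
    | succ j ih =>
      by_cases h : ∃ x, x.s = false ∧ ψ x = g * g
      · exact ⟨g, hgK, hcon, h⟩
      · exact ih (g * g) h (by rw [← sq, ← pow_mul, ← pow_succ']; exact hj) (mul_mem hgK hgK)
  obtain ⟨hy1, hygen⟩ := (hK y).1 hyK
  have ht4 : InZ4 t := by
    have key : ∀ x ∈ [R1, S1, R2, S2], t * x = x * t := fun x hx => by
      have h1 := conjf_comp ψ hψ y y x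
      rw [← hty, conjf_self] at h1
      have h3 : conjf ψ hψ y (conjf ψ hψ y x) = conjf ψ hψ y x * (x⁻¹ * conjf ψ hψ y x) := by
        conv_rhs => arg 2; rw [← conjf_z4_fix ψ hψ y hy1 (hygen x hx)]
        rw [← map_mul, mul_inv_cancel_left]
      have h4 := z4_cases (hygen x hx)
      have h5 : (x⁻¹ * conjf ψ hψ y x) * (x⁻¹ * conjf ψ hψ y x) = 1 := by
        rcases h4 with e | e | e | e <;> rw [e] <;> decide
      rw [h3] at h1
      have h6 : t * x * t⁻¹ = x := by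
        rw [h1]
        calc conjf ψ hψ y x * (x⁻¹ * conjf ψ hψ y x)
            = x * ((x⁻¹ * conjf ψ hψ y x) * (x⁻¹ * conjf ψ hψ y x)) := by group
          _ = x := by rw [h5, mul_one]
      exact mul_inv_eq_iff_eq_mul.1 h6
    exact inZ4_of_commute_base t hts (key _ (by simp)) (key _ (by simp)) (key _ (by simp))
      (key _ (by simp))
  let T : Set (G ⧸ z4Sub.map ψ) := ((fun x => π (ψ x)) '' {R1, S1, R2, S2}) ∪ {π y}
  have hsq : ∀ a ∈ T, a * a = 1 := by
    rintro a (⟨x, hx, rfl⟩ | rfl)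
    · show π (ψ x) * π (ψ x) = 1
      rw [← map_mul, ← map_mul, hker]
      rcases hx with rfl | rfl | rfl | rfl <;> decide
    · rw [← map_mul, ← hty, hker]; exact ht4
  have hcm : ∀ a ∈ T, ∀ b ∈ T, a * b = b * a := by
    have hbb : ∀ x u : Wr, x.s = false → u.s = false → π (ψ x) * π (ψ u) = π (ψ u) * π (ψ x) := by
      intro x u hx hu
      rw [← mul_inv_eq_one, _root_.mul_inv_rev, ← map_inv, ← map_inv, ← map_inv, ← map_inv,
        ← map_mul, ← map_mul, ← map_mul, ← map_mul, ← map_mul, ← map_mul, hker, ← mul_assoc]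
      exact inZ4_commutator x u hx hu
    have hs : ∀ x ∈ ({R1, S1, R2, S2} : Set Wr), x.s = false := by
      rintro x (rfl | rfl | rfl | rfl) <;> rfl
    have hC : π y ∈ C := hyK.1
    rintro a (⟨x, hx, rfl⟩ | rfl) b (⟨u, hu, rfl⟩ | rfl)
    · exact hbb x u (hs x hx) (hs u hu)
    · exact mem_centralizer_iff.1 hC _ ⟨x, hx, rfl⟩
    · exact (mem_centralizer_iff.1 hC _ ⟨u, hu, rfl⟩).symm
    · rfl
  let A := closure T
  have hAc : IsMulCommutative A := Subgroup.isMulCommutative_closure hcm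
  have hA : Cfsg.IsElementaryAbelian 2 A := by
    refine ⟨hAc, fun a ha => ?_⟩
    induction ha using Subgroup.closure_induction with
    | mem a ha => rw [sq]; exact hsq a ha
    | one => simp
    | mul a b ha hb iha ihb =>
      have hab : Commute a b := Subtype.ext_iff.1 (hAc.1.comm ⟨a, ha⟩ ⟨b, hb⟩)
      rw [hab.mul_pow, iha, ihb, mul_one]
    | inv a _ iha => rw [inv_pow, iha, inv_one]
  have h16 : Nat.card A ≤ 16 := SectionalRank.card_le hr ⊤ (π.comp (⊤ : Subgroup G).subtype) A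
    (fun a _ => by
      obtain ⟨u, rfl⟩ := QuotientGroup.mk'_surjective (z4Sub.map ψ) a
      exact ⟨⟨u, mem_top u⟩, rfl⟩) hA
  have hrep : ∀ s, π (ψ (rep s)) ∈ A := by
    have h1 : ∀ x ∈ [R1, S1, R2, S2, 1], π (ψ x) ∈ A := fun x hx => by
      simp only [List.mem_cons, List.not_mem_nil, or_false] at hx
      rcases hx with rfl | rfl | rfl | rfl | rfl
      all_goals first
        | (rw [map_one, map_one]; exact one_mem A)
        | exact subset_closure (Or.inl ⟨_, by simp, rfl⟩)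
    rintro ⟨⟨i, j⟩, k, l⟩
    have e : rep ((i, j), k, l) = (if i then R1 else 1) * (if j then S1 else 1) *
        ((if k then R2 else 1) * (if l then S2 else 1)) := by
      revert i j k l; decide
    rw [e]
    simp only [map_mul]
    exact mul_mem (mul_mem (h1 _ (by split <;> simp)) (h1 _ (by split <;> simp)))
      (mul_mem (h1 _ (by split <;> simp)) (h1 _ (by split <;> simp)))
  let F : Option ((Bool × Bool) × Bool × Bool) → A := fun o =>
    o.elim ⟨π y, subset_closure (Or.inr rfl)⟩ fun s => ⟨π (ψ (rep s)), hrep s⟩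
  have hny : ∀ s, π y ≠ π (ψ (rep s)) := fun s h => by
    have h1 : (ψ (rep s))⁻¹ * y ∈ z4Sub.map ψ := QuotientGroup.eq.1 h.symm
    obtain ⟨c, hc, hce⟩ := h1
    refine hy ⟨rep s * c, ?_, by rw [map_mul, hce, mul_inv_cancel_left]⟩
    obtain ⟨a, b, s'⟩ := c
    obtain ⟨hc, -⟩ := hc
    simp only at hc
    subst hc
    rfl
  have hF : Function.Injective F := by
    rintro (_ | s) (_ | t) h
    · rfl
    · exact absurd (congrArg Subtype.val h) (hny t)
    · exact absurd (congrArg Subtype.val h).symm (hny s)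
    · refine congrArg some (rep_inj s t ((hker _).1 ?_))
      rw [map_mul, map_mul, map_inv, map_inv, inv_mul_eq_one]
      exact congrArg Subtype.val h
  have := Nat.card_le_card_of_injective F hF
  rw [Nat.card_eq_fintype_card, Fintype.card_option] at this
  simp only [Fintype.card_prod, Fintype.card_bool] at this
  omega

theorem structure_normalizer [Finite G] (h2 : IsPGroup 2 G) (hr : Cfsg.SectionalPRankLE 2 4 G)
    (hne : ψ.range ≠ ⊤) : ψ.range.index = 2 ∧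
      (∀ g, g ∉ ψ.range → Flip ψ hψ g ∨ Flip ψ hψ (g * ψ W)) := by
  have hW : conjf ψ hψ (ψ W) C1 = C2 := by rw [conjf_self]; decide
  have hfix : ∀ g, conjf ψ hψ g C1 = C1 ∨ conjf ψ hψ (g * ψ W) C1 = C1 := fun g => by
    rcases conjf_C1 ψ hψ g with h | h
    · exact Or.inl h
    · refine Or.inr ?_
      rw [conjf_comp, hW, show C2 = C1 * Z by decide, map_mul, conjf_Z ψ hψ, h]
      decide
  have hcase : ∀ g, g ∉ ψ.range → Flip ψ hψ g ∨ Flip ψ hψ (g * ψ W) := fun g hg => by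
    rcases hfix g with h | h
    · refine Or.inl ((keep_or_flip ψ hψ g h).resolve_left fun hk => hg ?_)
      obtain ⟨x, -, hx⟩ := keep_mem_base ψ hψ h2 hr g hk
      exact ⟨x, hx⟩
    · refine Or.inr ((keep_or_flip ψ hψ _ h).resolve_left fun hk => hg ?_)
      obtain ⟨x, -, hx⟩ := keep_mem_base ψ hψ h2 hr _ hk
      exact ⟨x * W⁻¹, by rw [map_mul, hx, map_inv, mul_inv_cancel_right]⟩
  refine ⟨?_, hcase⟩
  obtain ⟨g0, -, hg0⟩ := SetLike.exists_of_lt (lt_top_iff_ne_top.2 hne)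
  obtain ⟨g1, hg1, hf1⟩ : ∃ g1, g1 ∉ ψ.range ∧ Flip ψ hψ g1 := by
    rcases hcase g0 hg0 with h | h
    · exact ⟨g0, hg0, h⟩
    · exact ⟨_, fun hm => hg0 ((ψ.range.mul_mem_cancel_right ⟨W, rfl⟩).1 hm), h⟩
  refine index_eq_two_iff.2 ⟨g1, fun b => ?_⟩
  by_cases hb : b ∈ ψ.range
  · exact Or.inr ⟨hb, fun h => hg1 ((ψ.range.mul_mem_cancel_left hb).1 h)⟩
  · refine Or.inl ⟨?_, hb⟩
    rcases hcase b hb with h | h
    · obtain ⟨x, -, hx⟩ := keep_mem_base ψ hψ h2 hr _ (flip_mul_flip ψ hψ b g1 h hf1)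
      exact ⟨x, hx⟩
    · obtain ⟨x, -, hx⟩ := keep_mem_base ψ hψ h2 hr _ (flip_mul_flip ψ hψ _ g1 h hf1)
      have h3 : b * g1 = ψ x * (g1⁻¹ * ψ W⁻¹ * g1) := by
        rw [hx, map_inv]; group
      rw [h3]
      exact mul_mem ⟨x, rfl⟩ (hN.conj_mem' _ ⟨W⁻¹, rfl⟩ g1)

theorem centralizer_range_le [Finite G] (h2 : IsPGroup 2 G) (hr : Cfsg.SectionalPRankLE 2 4 G) :
    centralizer (ψ.range : Set G) ≤ ψ.range := fun g hg => by
  have h1 : ∀ x, conjf ψ hψ g x = x := fun x => hψ (by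
    rw [conjf_spec, mul_inv_eq_iff_eq_mul]
    exact (mem_centralizer_iff.1 hg _ ⟨x, rfl⟩).symm)
  obtain ⟨x, -, hx⟩ := keep_mem_base ψ hψ h2 hr g ⟨h1 _, fun x _ => by
    rw [h1, inv_mul_cancel]; decide⟩
  exact ⟨x, hx⟩

/-- An element outside does not normalize either normal elementary abelian subgroup. -/
theorem not_normalize_V [Finite G] (h2 : IsPGroup 2 G) (hr : Cfsg.SectionalPRankLE 2 4 G)
    (hne : ψ.range ≠ ⊤) (p : Wr → Prop) (hp : (p = InV1) ∨ (p = InV2)) (g : G)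
    (hg : ∀ x, p x → p (conjf ψ hψ g x)) : g ∈ ψ.range := by
  by_contra h
  have hWp : ∀ x, p x → p (W * x * W⁻¹) := by
    rcases hp with rfl | rfl <;> exact forall_iff.2 (by decide)
  have key : ∀ g, Flip ψ hψ g → ¬ (∀ x, p x → p (conjf ψ hψ g x)) := by
    intro g hf hg
    obtain ⟨hC, h1, h2', h3, h4⟩ := hf
    rcases hp with rfl | rfl
    · have hs := hg S1 (by decide)
      revert hs h3
      generalize conjf ψ hψ g S1 = v
      revert v
      exact forall_iff.2 (by decide)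
    · have hs := hg (S1 * R1) (by decide)
      rw [map_mul] at hs
      revert hs h1 h3
      generalize conjf ψ hψ g S1 = v
      generalize conjf ψ hψ g R1 = u
      intro hu hv
      obtain ⟨hus, hua, hub⟩ := cong_cases (a := r 1) (b := 1) (a' := r 1) (b' := 1)
        (show InZ4 ((⟨r 1, 1, false⟩ : Wr)⁻¹ * u) from hu) rfl rfl
      obtain ⟨hvs, hva, hvb⟩ := cong_cases (a := sr 1) (b := 1) (a' := sr 1) (b' := 1)
        (show InZ4 ((⟨sr 1, 1, false⟩ : Wr)⁻¹ * v) from hv) rfl rfl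
      rcases u with ⟨a, b, s⟩
      rcases v with ⟨a', b', s'⟩
      simp only at hus hua hub hvs hva hvb
      subst hus hvs
      rcases hua with rfl | rfl <;> rcases hub with rfl | rfl <;> rcases hva with rfl | rfl <;>
        rcases hvb with rfl | rfl <;> decide
  rcases (structure_normalizer ψ hψ h2 hr hne).2 g h with hf | hf
  · exact key g hf hg
  · exact key _ hf fun x hx => by
      rw [conjf_comp, conjf_self]
      exact hg _ (hWp x hx)

end Embedded

end Cfsg.Agent.Lib.WrD8
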