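import Cfsg.Agent.Lib.WrD8.Model

/-!
# Homomorphisms out of `D₈ ≀ C₂`
-/

set_option autoImplicit false

namespace Cfsg.Agent.Lib.WrD8

open DihedralGroup

variable {H : Type*} [Group H]

/-- The map `r ↦ R`, `sr 0 ↦ S`. -/
def dihFun (R S : H) : Dih → H
  | r i => R ^ i.val
  | sr i => S * R ^ i.val

theorem pow_val_add {R : H} (hR : R ^ 4 = 1) (i j : ZMod 4) :
    R ^ (i + j).val = R ^ i.val * R ^ j.val := by
  rw [← pow_add, ZMod.val_add]; exact (pow_eq_pow_mod _ hR).symm

/-- A homomorphism from the dihedral group of order `8`. -/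
def dihLift (R S : H) (hR : R ^ 4 = 1) (hS : S * S = 1) (hSR : S * R * S = R⁻¹) : Dih →* H where
  toFun := dihFun R S
  map_one' := by
    show R ^ (0 : ZMod 4).val = 1
    simp
  map_mul' := by
    have hneg : ∀ i j : ZMod 4, R ^ (j - i).val = (R ^ i.val)⁻¹ * R ^ j.val := fun i j => by
      rw [eq_inv_mul_iff_mul_eq, ← pow_val_add hR, add_sub_cancel]
    have hcomm : ∀ n : ℕ, R ^ n * S = S * (R ^ n)⁻¹ := fun n => by
      have h1 : SemiconjBy S R⁻¹ R := by
        show S * R⁻¹ = R * S
        rw [← hSR, ← mul_assoc, ← mul_assoc, hS, one_mul]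
      have h2 := (h1.pow_right n).eq
      rw [inv_pow] at h2
      exact h2.symm
    rintro (i | i) (j | j)
    · simp only [r_mul_r, dihFun]; exact pow_val_add hR i j
    · simp only [r_mul_sr, dihFun]
      rw [← mul_assoc, hcomm, mul_assoc, hneg]
    · simp only [sr_mul_r, dihFun]
      rw [pow_val_add hR, mul_assoc]
    · simp only [sr_mul_sr, dihFun]
      rw [hneg, ← mul_assoc (S * R ^ i.val), mul_assoc S, hcomm, ← mul_assoc S, hS, one_mul]

theorem dihLift_r (R S : H) (hR : R ^ 4 = 1) (hS : S * S = 1) (hSR : S * R * S = R⁻¹) :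
    dihLift R S hR hS hSR (r 1) = R := by
  show R ^ (1 : ZMod 4).val = R
  rw [show (1 : ZMod 4).val = 1 from rfl, pow_one]

theorem dihLift_sr (R S : H) (hR : R ^ 4 = 1) (hS : S * S = 1) (hSR : S * R * S = R⁻¹) :
    dihLift R S hR hS hSR (sr 0) = S := by
  show S * R ^ (0 : ZMod 4).val = S
  simp

/-- Membership of the images of the elements of `Dih` follows from the two generators. -/
theorem dih_hom_mem (e : Dih →* H) (L : Subgroup H) (hR : e (r 1) ∈ L) (hS : e (sr 0) ∈ L)
    (x : Dih) : e x ∈ L := by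
  rcases x with i | i
  · rw [show r i = r 1 ^ i.val by rw [r_one_pow, ZMod.natCast_zmod_val], map_pow]
    exact pow_mem hR _
  · rw [show sr i = sr 0 * r 1 ^ i.val by
      rw [r_one_pow, ZMod.natCast_zmod_val, sr_mul_r, zero_add], map_mul, map_pow]
    exact mul_mem hS (pow_mem hR _)

/-- A homomorphism from `D₈ ≀ C₂`. -/
noncomputable def wrLift (e : Dih →* H) (w : H) (hw : w * w = 1)
    (hc : ∀ a b, e a * (w * e b * w) = w * e b * w * e a) : Wr →* H where
  toFun x := e x.a * (w * e x.b * w) * if x.s then w else 1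
  map_one' := by simp [Wr.one_eq, hw]
  map_mul' := by
    let v : Dih → H := fun b => w * e b * w
    have hww : ∀ z : H, w * (w * z) = z := fun z => by rw [← mul_assoc, hw, one_mul]
    have hv : ∀ b b', v (b * b') = v b * v b' := fun b b' => by
      simp only [v, map_mul, mul_assoc, hww]
    have hwu : ∀ a, w * e a = v a * w := fun a => by simp [v, mul_assoc, hw]
    have hwv : ∀ b, w * v b = e b * w := fun b => by
      simp only [v, ← mul_assoc, hw, one_mul]
    have h4 : ∀ a b a' b', e (a * a') * v (b * b') = e a * v b * (e a' * v b') := fun a b a' b' => by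
      rw [map_mul, hv]
      exact (Commute.mul_mul_mul_comm (hc a' b) _ _ :)
    have hsw : ∀ a b, w * (e a * v b) = e b * v a * w := fun a b => by
      rw [← mul_assoc, hwu, mul_assoc, hwv, ← mul_assoc, ← hc b a]
    rintro ⟨a, b, s⟩ ⟨a', b', s'⟩
    cases s
    · simp only [Wr.mul_false, Bool.false_eq_true, if_false, mul_one]
      show e (a * a') * v (b * b') * _ = e a * v b * (e a' * v b' * _)
      rw [h4, mul_assoc]
    · simp only [Wr.mul_true, if_true]
      show e (a * b') * v (b * a') * _ = e a * v b * w * (e a' * v b' * _)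
      rw [h4, mul_assoc (e a * v b) w, ← mul_assoc w, hsw, mul_assoc, mul_assoc]
      cases s' <;> simp [hw, mul_assoc]

end Cfsg.Agent.Lib.WrD8
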