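import Mathlib.GroupTheory.SpecificGroups.Dihedral
import Mathlib.GroupTheory.Sylow
import Mathlib.GroupTheory.Perm.Fin
import Mathlib.Tactic

/-!
# The wreath product `D₈ ≀ C₂` as a concrete group
-/

set_option autoImplicit false

namespace Cfsg.Agent.Lib.WrD8

open DihedralGroup

/-- The dihedral group of order `8`. -/
abbrev Dih := DihedralGroup 4

/-- `(a, b, s)` stands for `a · b' · w ^ s`. -/
@[ext]
structure Wr where
  a : Dih
  b : Dih
  s : Bool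
  deriving DecidableEq

namespace Wr

instance : Mul Wr :=
  ⟨fun x y => if x.s then ⟨x.a * y.b, x.b * y.a, !y.s⟩ else ⟨x.a * y.a, x.b * y.b, y.s⟩⟩

instance : One Wr := ⟨⟨1, 1, false⟩⟩

instance : Inv Wr := ⟨fun x => if x.s then ⟨x.b⁻¹, x.a⁻¹, true⟩ else ⟨x.a⁻¹, x.b⁻¹, false⟩⟩

theorem mul_false (a b : Dih) (y : Wr) :
    (⟨a, b, false⟩ : Wr) * y = ⟨a * y.a, b * y.b, y.s⟩ := rfl

theorem mul_true (a b : Dih) (y : Wr) :
    (⟨a, b, true⟩ : Wr) * y = ⟨a * y.b, b * y.a, !y.s⟩ := rfl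

theorem one_eq : (1 : Wr) = ⟨1, 1, false⟩ := rfl

instance : Group Wr where
  mul_assoc := fun ⟨a, b, s⟩ ⟨a', b', s'⟩ ⟨a'', b'', s''⟩ => by
    cases s <;> cases s' <;> simp [mul_false, mul_true, mul_assoc]
  one_mul := fun ⟨a, b, s⟩ => by simp [one_eq, mul_false]
  mul_one := fun ⟨a, b, s⟩ => by cases s <;> simp [one_eq, mul_false, mul_true]
  inv_mul_cancel := fun ⟨a, b, s⟩ => by
    cases s
    · show (⟨a⁻¹, b⁻¹, false⟩ : Wr) * _ = _
      simp [one_eq, mul_false]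
    · show (⟨b⁻¹, a⁻¹, true⟩ : Wr) * _ = _
      simp [one_eq, mul_true]

/-- The underlying type as a product. -/
def toProd : Wr ≃ Dih × Dih × Bool where
  toFun x := (x.a, x.b, x.s)
  invFun x := ⟨x.1, x.2.1, x.2.2⟩

instance : Fintype Wr := Fintype.ofEquiv _ toProd.symm

theorem card : Nat.card Wr = 128 := by
  rw [Nat.card_congr toProd, Nat.card_prod, Nat.card_prod, DihedralGroup.nat_card,
    Nat.card_eq_fintype_card, Fintype.card_bool]

/-- Quantifying over the three coordinates. -/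
theorem forall_iff {p : Wr → Prop} : (∀ x, p x) ↔ ∀ a b s, p ⟨a, b, s⟩ :=
  ⟨fun h a b s => h _, fun h x => h x.a x.b x.s⟩

def R1 : Wr := ⟨r 1, 1, false⟩
def R2 : Wr := ⟨1, r 1, false⟩
def S1 : Wr := ⟨sr 0, 1, false⟩
def S2 : Wr := ⟨1, sr 0, false⟩
def W : Wr := ⟨1, 1, true⟩
def C1 : Wr := ⟨r 2, 1, false⟩
def C2 : Wr := ⟨1, r 2, false⟩
def Z : Wr := ⟨r 2, r 2, false⟩

/-- The centre of the base. -/
def InZ4 (x : Wr) : Prop := x.s = false ∧ (x.a = 1 ∨ x.a = r 2) ∧ (x.b = 1 ∨ x.b = r 2)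

instance (x : Wr) : Decidable (InZ4 x) := by unfold InZ4; infer_instance

theorem eq_one_or_Z_of_commute : ∀ x : Wr,
    x * R1 = R1 * x → x * S1 = S1 * x → x * W = W * x → x = 1 ∨ x = Z :=
  forall_iff.2 (by decide)

theorem Z_commute : ∀ x : Wr, Z * x = x * Z := forall_iff.2 (by decide)

theorem Z_mul_Z : Z * Z = 1 := by decide

theorem Z_ne_one : Z ≠ 1 := by decide

/-- `x` is central modulo the centre. -/
theorem inZ4_of_commutator : ∀ x : Wr,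
    (R1 * x * R1⁻¹ = x ∨ R1 * x * R1⁻¹ = x * Z) → (S1 * x * S1⁻¹ = x ∨ S1 * x * S1⁻¹ = x * Z) →
      (W * x * W⁻¹ = x ∨ W * x * W⁻¹ = x * Z) → x = 1 ∨ x = C1 ∨ x = C2 ∨ x = Z :=
  forall_iff.2 (by decide)

theorem commutator_C1 : ∀ x : Wr, x * C1 * x⁻¹ = C1 ∨ x * C1 * x⁻¹ = C1 * Z :=
  forall_iff.2 (by decide)

theorem s_eq_false_iff : ∀ x : Wr, x * C1 * x⁻¹ = C1 ↔ x.s = false :=
  forall_iff.2 (by decide)

theorem base_decomp : ∀ x : Wr, x.s = false →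
    x = ⟨x.a, 1, false⟩ * ⟨1, x.b, false⟩ := fun ⟨a, b, s⟩ h => by
  cases h
  simp [mul_false]

theorem inZ4_of_commute_base : ∀ x : Wr, x.s = false → x * R1 = R1 * x → x * S1 = S1 * x →
    x * R2 = R2 * x → x * S2 = S2 * x → InZ4 x :=
  forall_iff.2 (by decide)

theorem R_cases_aux : ∀ a b : Dih, ∀ s, (⟨a, b, s⟩ : Wr) * ⟨a, b, s⟩ = C1 →
    s = false ∧ (a = r 1 ∨ a = r 3) ∧ b * b = 1 := by decide

theorem R_cases_aux' : ∀ a b : Dih, ∀ s, (⟨a, b, s⟩ : Wr) * ⟨a, b, s⟩ = C2 →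
    s = false ∧ (b = r 1 ∨ b = r 3) ∧ a * a = 1 := by decide

theorem half_cases : ∀ b : Dih, b * b = 1 → ∀ q : Dih, (q = r 1 ∨ q = r 3) → b * q = q * b →
    (b = 1 ∨ b = r 2) := by decide

/-- The shape of the image of `R1`, `R2`. -/
theorem R_cases (x u : Wr) (hx : x * x = C1) (hu : u * u = C2) (hxu : x * u = u * x) :
    x.s = false ∧ u.s = false ∧ (x.a = r 1 ∨ x.a = r 3) ∧ (x.b = 1 ∨ x.b = r 2) ∧
      (u.a = 1 ∨ u.a = r 2) ∧ (u.b = r 1 ∨ u.b = r 3) := by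
  obtain ⟨a, b, s⟩ := x
  obtain ⟨a', b', s'⟩ := u
  obtain ⟨rfl, ha, hb⟩ := R_cases_aux a b s hx
  obtain ⟨rfl, hb', ha'⟩ := R_cases_aux' a' b' s' hu
  simp only [mul_false, Wr.mk.injEq, and_true] at hxu
  exact ⟨rfl, rfl, ha, half_cases b hb b' hb' hxu.2, half_cases a' ha' a ha hxu.1.symm, hb'⟩

theorem S_half : ∀ g : Dih, g * g = 1 → ∀ q : Dih, (q = r 1 ∨ q = r 3) → g * q * g = q⁻¹ →
    (g = sr 0 ∨ g = sr 2) ∨ (g = sr 1 ∨ g = sr 3) := by decide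

theorem central_half : ∀ b : Dih, (b = 1 ∨ b = r 2) → ∀ g : Dih, g * b = b * g := by decide

/-- The shape of the image of `S1`. -/
theorem S_cases (x u v : Wr) (hx : x * x = C1) (hu : u * u = C2) (hxu : x * u = u * x)
    (hv : v * v = 1) (hvC : v * C1 * v⁻¹ = C1) (hvx : v * x * v⁻¹ = x⁻¹)
    (hvu : v * u = u * v) :
    v.s = false ∧ ((v.a = sr 0 ∨ v.a = sr 2) ∨ (v.a = sr 1 ∨ v.a = sr 3)) ∧
      (v.b = 1 ∨ v.b = r 2) := by
  obtain ⟨g, h, s⟩ := v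
  obtain rfl : s = false := (s_eq_false_iff _).1 hvC
  obtain ⟨hxs, hus, ha, hb, ha', hb'⟩ := R_cases x u hx hu hxu
  obtain ⟨a, b, s⟩ := x
  obtain ⟨a', b', s'⟩ := u
  simp only at hxs hus ha hb ha' hb'
  subst hxs hus
  have hinv : (⟨g, h, false⟩ : Wr)⁻¹ = ⟨g, h, false⟩ := inv_eq_of_mul_eq_one_right hv
  rw [hinv] at hvx
  simp only [mul_false, one_eq, Wr.mk.injEq, and_true] at hv hvu
  rw [show (⟨a, b, false⟩ : Wr)⁻¹ = ⟨a⁻¹, b⁻¹, false⟩ from rfl] at hvx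
  simp only [mul_false, Wr.mk.injEq, and_true] at hvx
  exact ⟨rfl, S_half g hv.1 a ha hvx.1, half_cases h hv.2 b' hb' hvu.2⟩

theorem base_commutator : ∀ a b : Dih, a * b * a⁻¹ * b⁻¹ = 1 ∨ a * b * a⁻¹ * b⁻¹ = r 2 := by
  decide

theorem inZ4_commutator (x y : Wr) (hx : x.s = false) (hy : y.s = false) :
    InZ4 (x * y * x⁻¹ * y⁻¹) := by
  obtain ⟨a, b, s⟩ := x
  obtain ⟨a', b', s'⟩ := y
  simp only at hx hy
  subst hx hy
  exact ⟨rfl, base_commutator a a', base_commutator b b'⟩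

/-! ### Normal elementary abelian subgroups of order sixteen -/

/-- The first normal elementary abelian subgroup of order `16`. -/
def InV1 (x : Wr) : Prop :=
  x.s = false ∧ (x.a = 1 ∨ x.a = r 2 ∨ x.a = sr 0 ∨ x.a = sr 2) ∧
    (x.b = 1 ∨ x.b = r 2 ∨ x.b = sr 0 ∨ x.b = sr 2)

/-- The second normal elementary abelian subgroup of order `16`. -/
def InV2 (x : Wr) : Prop :=
  x.s = false ∧ (x.a = 1 ∨ x.a = r 2 ∨ x.a = sr 1 ∨ x.a = sr 3) ∧
    (x.b = 1 ∨ x.b = r 2 ∨ x.b = sr 1 ∨ x.b = sr 3)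

instance (x : Wr) : Decidable (InV1 x) := by unfold InV1; infer_instance

instance (x : Wr) : Decidable (InV2 x) := by unfold InV2; infer_instance

theorem card_InV1 : Nat.card {x // InV1 x} = 16 := by
  rw [Nat.card_eq_fintype_card]; decide

theorem card_InV2 : Nat.card {x // InV2 x} = 16 := by
  rw [Nat.card_eq_fintype_card]; decide

theorem s_false_of_good : ∀ x : Wr, x * x = 1 →
    x * (R1 * x * R1⁻¹) = (R1 * x * R1⁻¹) * x → x.s = false :=
  forall_iff.2 (by decide)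

theorem inV_of_good : ∀ x : Wr, x.s = false → x * x = 1 →
    x * (W * x * W⁻¹) = (W * x * W⁻¹) * x → InV1 x ∨ InV2 x :=
  forall_iff.2 (by decide)

theorem not_both : ∀ x : Wr, InV2 x → ¬ InV1 x → ∀ y : Wr, InV1 y → ¬ InV2 y →
    ¬ (x * y = y * x ∧ x * (W * y * W⁻¹) = (W * y * W⁻¹) * x) :=
  forall_iff.2 fun a b s h1 h2 => forall_iff.2 fun a' b' s' h3 h4 => by
    revert h3 h4
    revert a' b' s'
    revert h1 h2
    revert a b s
    decide

/-- A normal subgroup of exponent two and order `16` with commuting elements is one of two. -/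
theorem eq_V1_or_V2 (V : Subgroup Wr) [V.Normal] (hc : ∀ x ∈ V, ∀ y ∈ V, x * y = y * x)
    (he : ∀ x ∈ V, x * x = 1) (h16 : Nat.card V = 16) :
    (∀ x, x ∈ V ↔ InV1 x) ∨ (∀ x, x ∈ V ↔ InV2 x) := by
  have hn : ∀ g, ∀ x ∈ V, g * x * g⁻¹ ∈ V := fun g x hx => Subgroup.Normal.conj_mem ‹_› x hx g
  have hmem : ∀ x ∈ V, InV1 x ∨ InV2 x := fun x hx =>
    inV_of_good x (s_false_of_good x (he x hx) (hc x hx _ (hn R1 x hx))) (he x hx)
      (hc x hx _ (hn W x hx))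
  have key : ∀ (p : Wr → Prop), Nat.card {x // p x} = 16 → (∀ x ∈ V, p x) →
      ∀ x, x ∈ V ↔ p x := by
    intro p hp hsub
    have := Set.eq_of_subset_of_ncard_le (s := (V : Set Wr)) (t := {x | p x}) hsub
      (le_of_eq (by
        rw [← Nat.card_coe_set_eq, ← Nat.card_coe_set_eq]
        exact hp.trans h16.symm))
    intro x
    exact Set.ext_iff.1 this x
  by_cases h : ∀ x ∈ V, InV1 x
  · exact Or.inl (key _ card_InV1 h)
  · simp only [not_forall] at h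
    obtain ⟨x, hx, hx1⟩ := h
    refine Or.inr (key _ card_InV2 fun y hy => ?_)
    by_contra hy2
    exact not_both x ((hmem x hx).resolve_left hx1) hx1 y ((hmem y hy).resolve_right hy2) hy2
      ⟨hc x hx y hy, hc x hx _ (hn W y hy)⟩

end Wr

end Cfsg.Agent.Lib.WrD8
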