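import Cfsg.Agent.Lib.WrD8.Embedded

/-!
# The normaliser modulo the centre is again `D₈ ≀ C₂`
-/

set_option autoImplicit false

namespace Cfsg.Agent.Lib.WrD8

open DihedralGroup Subgroup Wr

variable {H : Type*} [Group H]

/-- The defining relations give a map from `D₈ ≀ C₂`. -/
theorem exists_hom (R S T : H) (hR : R ^ 4 = 1) (hS : S * S = 1) (hSR : S * R * S = R⁻¹)
    (hT : T * T = 1) (hRR : Commute R (T * R * T)) (hRS : Commute R (T * S * T))
    (hSS : Commute S (T * S * T)) :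
    ∃ f : Wr →* H, f R1 = R ∧ f S1 = S ∧ f W = T := by
  let e := dihLift R S hR hS hSR
  have her : e (r 1) = R := dihLift_r R S hR hS hSR
  have hes : e (sr 0) = S := dihLift_sr R S hR hS hSR
  have hTT : ∀ z : H, T * (T * z) = z := fun z => by rw [← mul_assoc, hT, one_mul]
  let v : Dih →* H :=
    { toFun := fun b => T * e b * T
      map_one' := by simp [hT]
      map_mul' := fun a b => by simp [mul_assoc, hTT] }
  have hSR' : Commute S (T * R * T) := by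
    have h := congrArg (fun z => T * z * T) hRS.eq
    simp only [mul_assoc, hTT, hT, mul_one] at h
    show S * (T * R * T) = T * R * T * S
    simp only [mul_assoc]
    exact h.symm
  have hc1 : ∀ a b, e a * v b = v b * e a := by
    have gens : ∀ z, Commute z (v (r 1)) → Commute z (v (sr 0)) → ∀ b, Commute z (v b) :=
      fun z h1 h2 b => mem_centralizer_singleton_iff.1
        (dih_hom_mem v (centralizer {z}) (mem_centralizer_singleton_iff.2 h1.eq.symm)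
          (mem_centralizer_singleton_iff.2 h2.eq.symm) b) |>.symm
    intro a b
    have h3 : ∀ b, Commute R (v b) := gens R (by show Commute R (T * e (r 1) * T); rw [her]; exact hRR)
      (by show Commute R (T * e (sr 0) * T); rw [hes]; exact hRS)
    have h4 : ∀ b, Commute S (v b) := gens S (by show Commute S (T * e (r 1) * T); rw [her]; exact hSR')
      (by show Commute S (T * e (sr 0) * T); rw [hes]; exact hSS)
    exact mem_centralizer_singleton_iff.1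
      (dih_hom_mem e (centralizer {v b}) (mem_centralizer_singleton_iff.2 (by rw [her]; exact (h3 b).eq))
        (mem_centralizer_singleton_iff.2 (by rw [hes]; exact (h4 b).eq)) a)
  refine ⟨wrLift e T hT hc1, ?_, ?_, ?_⟩
  · show e (r 1) * (T * e 1 * T) * 1 = R
    simp [her, hT]
  · show e (sr 0) * (T * e 1 * T) * 1 = S
    simp [hes, hT]
  · show e 1 * (T * e 1 * T) * T = T
    simp [hT]

theorem range_hom_le (ρ : Wr →* H) (L : Subgroup H) (h1 : ρ R1 ∈ L) (h2 : ρ S1 ∈ L)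
    (hw : ρ W ∈ L) (x : Wr) : ρ x ∈ L := by
  have key : ∀ a : Dih, ρ ⟨a, 1, false⟩ ∈ L := fun a =>
    dih_hom_mem (ρ.comp { toFun := fun a => (⟨a, 1, false⟩ : Wr), map_one' := rfl,
                          map_mul' := fun a b => by simp [mul_false] }) L h1 h2 a
  obtain ⟨a, b, s⟩ := x
  have e : (⟨a, b, s⟩ : Wr) = ⟨a, 1, false⟩ * (W * ⟨b, 1, false⟩ * W) * if s then W else 1 := by
    cases s <;> simp [W, one_eq, mul_false, mul_true]
  rw [e, map_mul, map_mul, map_mul, map_mul]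
  refine mul_mem (mul_mem (key a) (mul_mem (mul_mem hw (key b)) hw)) ?_
  cases s
  · simp only [Bool.false_eq_true, if_false, map_one]; exact one_mem L
  · simpa using hw

section Quotient

variable {G : Type*} [Group G] [Finite G] (ψ : Wr →* G) (hψ : Function.Injective ψ)
  [hN : ψ.range.Normal]

include hψ

/-- A normalized element outside the range. -/
theorem exists_good (h2 : IsPGroup 2 G) (hr : Cfsg.SectionalPRankLE 2 4 G)
    (hne : ψ.range ≠ ⊤) :
    ∃ y : G, y ∉ ψ.range ∧ ∃ (k : Dih) (x t : Wr), (k = 1 ∨ k = r 2) ∧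
      conjf ψ hψ y R1 = R1 ∧ conjf ψ hψ y R2 = R2 ∧
      conjf ψ hψ y S1 = ⟨sr 1, k, false⟩ ∧ conjf ψ hψ y S2 = ⟨k, sr 1, false⟩ ∧
      (x = 1 ∨ x = Z) ∧ ψ W * y * ψ W = ψ x * y ∧
      (t = R1 * R2 ∨ t = R1 * R2 * Z) ∧ ψ t = y * y := by
  obtain ⟨g0, -, hg0⟩ := SetLike.exists_of_lt (lt_top_iff_ne_top.2 hne)
  obtain ⟨g, hg, hf⟩ : ∃ g, g ∉ ψ.range ∧ Flip ψ hψ g := by
    rcases (structure_normalizer ψ hψ h2 hr hne).2 g0 hg0 with h | h
    · exact ⟨g0, hg0, h⟩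
    · exact ⟨_, fun hm => hg0 ((ψ.range.mul_mem_cancel_right ⟨W, rfl⟩).1 hm), h⟩
  obtain ⟨hC, f1, f2, f3, f4⟩ := hf
  obtain ⟨hs1, ha1, hb1⟩ := cong_cases (a := r 1) (b := 1) (a' := r 1) (b' := 1)
    (show InZ4 ((⟨r 1, 1, false⟩ : Wr)⁻¹ * conjf ψ hψ g R1) from f1) rfl rfl
  obtain ⟨hs2, ha2, hb2⟩ := cong_cases (a := 1) (b := r 1) (a' := 1) (b' := r 1)
    (show InZ4 ((⟨1, r 1, false⟩ : Wr)⁻¹ * conjf ψ hψ g R2) from f2) rfl rfl
  obtain ⟨hs3, ha3, hb3⟩ := cong_cases (a := sr 1) (b := 1) (a' := sr 1) (b' := 1)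
    (show InZ4 ((⟨sr 1, 1, false⟩ : Wr)⁻¹ * conjf ψ hψ g S1) from f3) rfl rfl
  obtain ⟨hs4, ha4, hb4⟩ := cong_cases (a := 1) (b := sr 1) (a' := 1) (b' := sr 1)
    (show InZ4 ((⟨1, sr 1, false⟩ : Wr)⁻¹ * conjf ψ hψ g S2) from f4) rfl rfl
  obtain ⟨a, ha, ha'⟩ := adjust _ _ ha1 ha3
  obtain ⟨b, hb, hb'⟩ := adjust _ _ hb2 hb4
  set y := ψ ⟨a, b, false⟩ * g with hy
  have hcy : ∀ z : Wr, (conjf ψ hψ g z).s = false → conjf ψ hψ y z =
      ⟨a * (conjf ψ hψ g z).a * a⁻¹, b * (conjf ψ hψ g z).b * b⁻¹, false⟩ := fun z hz => by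
    rw [hy, conjf_comp, conjf_self]
    generalize conjf ψ hψ g z = u at hz
    obtain ⟨p, q, s⟩ := u
    simp only at hz
    subst hz
    rw [show (⟨a, b, false⟩ : Wr)⁻¹ = ⟨a⁻¹, b⁻¹, false⟩ from rfl, mul_false, mul_false]
  have hyr : y ∉ ψ.range := fun h => hg ((ψ.range.mul_mem_cancel_left ⟨_, rfl⟩).1 h)
  have hyC : conjf ψ hψ y C1 = C1 := by
    rw [hy, conjf_comp, hC, conjf_self]; exact (s_eq_false_iff _).2 rfl
  obtain ⟨h1, hh1, e1⟩ : ∃ h, (h = 1 ∨ h = r 2) ∧ conjf ψ hψ y R1 = ⟨r 1, h, false⟩ :=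
    ⟨_, by simpa using hb1, by rw [hcy _ hs1, ha, central_conj b _ hb1]⟩
  obtain ⟨h2', hh2, e2⟩ : ∃ h, (h = 1 ∨ h = r 2) ∧ conjf ψ hψ y R2 = ⟨h, r 1, false⟩ :=
    ⟨_, by simpa using ha2, by rw [hcy _ hs2, hb, central_conj a _ ha2]⟩
  obtain ⟨k1, hk1, e3⟩ : ∃ h, (h = 1 ∨ h = r 2) ∧ conjf ψ hψ y S1 = ⟨sr 1, h, false⟩ :=
    ⟨_, by simpa using hb3, by rw [hcy _ hs3, ha', central_conj b _ hb3]⟩
  obtain ⟨k2, hk2, e4⟩ : ∃ h, (h = 1 ∨ h = r 2) ∧ conjf ψ hψ y S2 = ⟨h, sr 1, false⟩ :=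
    ⟨_, by simpa using ha4, by rw [hcy _ hs4, hb', central_conj a _ ha4]⟩
  clear_value y
  have hfy : Flip ψ hψ y := by
    refine ⟨hyC, ?_, ?_, ?_, ?_⟩
    · rw [e1]; rcases hh1 with rfl | rfl <;> decide
    · rw [e2]; rcases hh2 with rfl | rfl <;> decide
    · rw [e3]; rcases hk1 with rfl | rfl <;> decide
    · rw [e4]; rcases hk2 with rfl | rfl <;> decide
  obtain ⟨t, hts, hty⟩ := keep_mem_base ψ hψ h2 hr _ (flip_mul_flip ψ hψ y y hfy hfy)
  have hfix : ∀ z, InZ4 z → conjf ψ hψ y z = z := fun z hz => conjf_z4_fix ψ hψ y hyC hz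
  have hff : ∀ z, conjf ψ hψ y (conjf ψ hψ y z) = t * z * t⁻¹ := fun z => by
    rw [← conjf_comp, ← hty, conjf_self]
  -- the square
  have t1 : t * R1 * t⁻¹ = R1 := by
    rw [← hff, e1, show (⟨r 1, h1, false⟩ : Wr) = R1 * ⟨1, h1, false⟩ by simp [R1, mul_false],
      map_mul, e1, hfix _ ⟨rfl, Or.inl rfl, hh1⟩]
    rcases hh1 with rfl | rfl <;> decide
  have t2 : t * R2 * t⁻¹ = R2 := by
    rw [← hff, e2, show (⟨h2', r 1, false⟩ : Wr) = R2 * ⟨h2', 1, false⟩ by simp [R2, mul_false],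
      map_mul, e2, hfix _ ⟨rfl, hh2, Or.inl rfl⟩]
    rcases hh2 with rfl | rfl <;> decide
  have t3 : t * S1 * t⁻¹ = ⟨sr 2, h1, false⟩ := by
    rw [← hff, e3, show (⟨sr 1, k1, false⟩ : Wr) = S1 * R1 * ⟨1, k1, false⟩ by
      simp [S1, R1, mul_false], map_mul, map_mul, e1, e3, hfix _ ⟨rfl, Or.inl rfl, hk1⟩]
    rcases hh1 with rfl | rfl <;> rcases hk1 with rfl | rfl <;> decide
  have t4 : t * S2 * t⁻¹ = ⟨h2', sr 2, false⟩ := by
    rw [← hff, e4, show (⟨k2, sr 1, false⟩ : Wr) = S2 * R2 * ⟨k2, 1, false⟩ by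
      simp [S2, R2, mul_false], map_mul, map_mul, e2, e4, hfix _ ⟨rfl, hk2, Or.inl rfl⟩]
    rcases hh2 with rfl | rfl <;> rcases hk2 with rfl | rfl <;> decide
  obtain ⟨ta, tb, ts⟩ := t
  simp only at hts
  subst hts
  rw [show (⟨ta, tb, false⟩ : Wr)⁻¹ = ⟨ta⁻¹, tb⁻¹, false⟩ from rfl] at t1 t2 t3 t4
  simp only [R1, R2, S1, S2, mul_false, Wr.mk.injEq, and_true, true_and,
    mul_one, mul_inv_cancel] at t1 t2 t3 t4
  obtain rfl : h1 = 1 := t3.2.symm
  obtain rfl : h2' = 1 := t4.1.symm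
  -- the swap
  have hx0 : (W * conjf ψ hψ y W).s = false := by
    refine (s_eq_false_iff _).1 ?_
    calc W * conjf ψ hψ y W * C1 * (W * conjf ψ hψ y W)⁻¹
        = W * (conjf ψ hψ y W * conjf ψ hψ y C1 * (conjf ψ hψ y W)⁻¹) * W⁻¹ := by
          rw [hyC]; group
      _ = C1 := by
          rw [← map_inv, ← map_mul, ← map_mul, show W * C1 * W⁻¹ = C2 by decide,
            conjf_C2 ψ hψ y hyC]
          decide
  have hx : ψ W * y * ψ W = ψ (W * conjf ψ hψ y W) * y := by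
    rw [map_mul, conjf_spec]; group
  generalize W * conjf ψ hψ y W = x at hx hx0
  have hxy : ∀ z, x * conjf ψ hψ y z * x⁻¹ = W * conjf ψ hψ y (W * z * W) * W := fun z => by
    have h : conjf ψ hψ (ψ x * y) z = conjf ψ hψ (ψ W * y * ψ W) z := by rw [hx]
    rw [conjf_comp, conjf_self, conjf_comp, conjf_comp, conjf_self, conjf_self,
      show W⁻¹ = W by decide] at h
    exact h
  have x1 := hxy R1
  have x2 := hxy R2
  have x3 := hxy S1
  have x4 := hxy S2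
  rw [e1, show W * R1 * W = R2 by decide, e2] at x1
  rw [e2, show W * R2 * W = R1 by decide, e1] at x2
  rw [e3, show W * S1 * W = S2 by decide, e4] at x3
  rw [e4, show W * S2 * W = S1 by decide, e3] at x4
  obtain ⟨xa, xb, xs⟩ := x
  simp only at hx0
  subst hx0
  rw [show (⟨xa, xb, false⟩ : Wr)⁻¹ = ⟨xa⁻¹, xb⁻¹, false⟩ from rfl] at x1 x2 x3 x4
  simp only [W, mul_false, mul_true, Bool.not_false, Bool.not_true, Wr.mk.injEq, and_true,
    true_and, one_mul, mul_one, mul_inv_cancel] at x1 x2 x3 x4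
  obtain rfl : k1 = k2 := by
    rw [← x3.2, central_conj xb k1 (by simpa using hk1)]
  have hxz : InZ4 (⟨xa, xb, false⟩ : Wr) :=
    ⟨rfl, half_conj_sr xa x1 x3.1, half_conj_sr xb x2 x4.2⟩
  have hta : ta = r 1 ∨ ta = r 3 := half_conj_r ta t1 t3.1
  have htb : tb = r 1 ∨ tb = r 3 := half_conj_r tb t2 t4.2
  have hxinv : (⟨xa, xb, false⟩ : Wr) * ⟨xa, xb, false⟩ = 1 := by
    rcases z4_cases hxz with e | e | e | e <;> rw [e] <;> decide
  have hWW : ψ W * ψ W = 1 := by rw [← map_mul, show W * W = 1 by decide, map_one]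
  have htt : ta = tb := by
    have h : ψ (W * ⟨ta, tb, false⟩ * W) = ψ ⟨ta, tb, false⟩ := by
      calc ψ (W * ⟨ta, tb, false⟩ * W) = (ψ W * y * ψ W) * (ψ W * y * ψ W) := by
            rw [map_mul, map_mul, hty]
            calc ψ W * (y * y) * ψ W = ψ W * y * (ψ W * ψ W) * y * ψ W := by rw [hWW]; group
              _ = _ := by group
        _ = ψ ⟨xa, xb, false⟩ * (y * ψ ⟨xa, xb, false⟩ * y⁻¹) * (y * y) := by rw [hx]; group
        _ = ψ (⟨xa, xb, false⟩ * ⟨xa, xb, false⟩) * (y * y) := by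
            rw [← conjf_spec ψ hψ, hfix _ hxz, map_mul]
        _ = ψ ⟨ta, tb, false⟩ := by rw [hxinv, map_one, one_mul, hty]
    have := hψ h
    simp only [W, mul_false, mul_true, Bool.not_false, Bool.not_true, Wr.mk.injEq, one_mul,
      mul_one, and_true] at this
    exact this.2
  have hxab : xa = xb := by
    have h : ψ (W * ⟨xa, xb, false⟩ * W * ⟨xa, xb, false⟩) = 1 := by
      refine mul_right_cancel (b := y) ?_
      rw [map_mul, map_mul, map_mul, one_mul, mul_assoc _ (ψ _) y, ← hx]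
      calc ψ W * ψ ⟨xa, xb, false⟩ * ψ W * (ψ W * y * ψ W)
          = ψ W * ψ ⟨xa, xb, false⟩ * (ψ W * ψ W) * y * ψ W := by group
        _ = ψ W * (ψ ⟨xa, xb, false⟩ * y) * ψ W := by rw [hWW]; group
        _ = y := by
          rw [← hx]
          calc ψ W * (ψ W * y * ψ W) * ψ W = (ψ W * ψ W) * y * (ψ W * ψ W) := by group
            _ = y := by rw [hWW]; group
    rw [← map_one ψ] at h
    have := hψ h
    rcases hxz with ⟨-, rfl | rfl, rfl | rfl⟩ <;> first | rfl | exact absurd this (by decide)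
  refine ⟨y, hyr, k1, _, _, hk1, e1, e2, e3, e4, ?_, hx, ?_, hty⟩
  · subst hxab
    rcases hxz.2.1 with rfl | rfl
    · exact Or.inl rfl
    · exact Or.inr rfl
  · subst htt
    rcases hta with rfl | rfl
    · exact Or.inl (by decide)
    · exact Or.inr (by decide)

/-- The quotient by the centre. -/
theorem nonempty_quotient_mulEquiv (h2 : IsPGroup 2 G) (hr : Cfsg.SectionalPRankLE 2 4 G)
    (hne : ψ.range ≠ ⊤) (K : Subgroup G) [K.Normal] (hK : ∀ g, g ∈ K ↔ g = 1 ∨ g = ψ Z) :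
    Nonempty (G ⧸ K ≃* Wr) := by
  obtain ⟨y0, hy0, k, x, t, hk, e1, e2, e3, e4, hx, hWy0, ht, hty⟩ := exists_good ψ hψ h2 hr hne
  let p := QuotientGroup.mk' K
  have hpZ : p (ψ Z) = 1 := (QuotientGroup.eq_one_iff _).2 ((hK _).2 (Or.inr rfl))
  -- remove the twist modulo the centre
  obtain ⟨y, hy, f1, f2, f3, f4, fW, fyy⟩ : ∃ y : G, y ∉ ψ.range ∧
      conjf ψ hψ y R1 = R1 ∧ conjf ψ hψ y R2 = R2 ∧
      p (ψ (conjf ψ hψ y S1)) = p (ψ (S1 * R1)) ∧ p (ψ (conjf ψ hψ y S2)) = p (ψ (S2 * R2)) ∧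
      p (ψ W) * p y * p (ψ W) = p y ∧ p y * p y = p (ψ (R1 * R2)) := by
    have hxp : p (ψ x) = 1 := by rcases hx with rfl | rfl <;> simp [hpZ]
    have htp : p (ψ t) = p (ψ (R1 * R2)) := by rcases ht with rfl | rfl <;> simp [hpZ]
    have hWp : p (ψ W) * p y0 * p (ψ W) = p y0 := by
      rw [← map_mul, ← map_mul, hWy0, map_mul, hxp, one_mul]
    have hyp : p y0 * p y0 = p (ψ (R1 * R2)) := by rw [← map_mul, ← hty, htp]
    rcases hk with rfl | rfl
    · exact ⟨y0, hy0, e1, e2, by rw [e3]; rfl, by rw [e4]; rfl, hWp, hyp⟩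
    · refine ⟨ψ (R1 * R2) * y0, fun h => hy0 ((ψ.range.mul_mem_cancel_left ⟨_, rfl⟩).1 h), ?_, ?_,
        ?_, ?_, ?_, ?_⟩
      · rw [conjf_comp, e1, conjf_self]; decide
      · rw [conjf_comp, e2, conjf_self]; decide
      · rw [conjf_comp, e3, conjf_self, show R1 * R2 * ⟨sr 1, r 2, false⟩ * (R1 * R2)⁻¹ =
          S1 * R1 * Z by decide, map_mul ψ (S1 * R1), map_mul, hpZ, mul_one]
      · rw [conjf_comp, e4, conjf_self, show R1 * R2 * ⟨r 2, sr 1, false⟩ * (R1 * R2)⁻¹ =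
          S2 * R2 * Z by decide, map_mul ψ (S2 * R2), map_mul, hpZ, mul_one]
      · rw [map_mul p]
        have h1 : p (ψ W) * p (ψ (R1 * R2)) = p (ψ (R1 * R2)) * p (ψ W) := by
          rw [← map_mul, ← map_mul, ← map_mul, ← map_mul,
            show W * (R1 * R2) = R1 * R2 * W by decide]
        calc p (ψ W) * (p (ψ (R1 * R2)) * p y0) * p (ψ W)
            = p (ψ (R1 * R2)) * (p (ψ W) * p y0 * p (ψ W)) := by
              rw [← mul_assoc (p (ψ W)), h1]; group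
          _ = _ := by rw [hWp]
      · rw [map_mul p]
        have h1 : p y0 * p (ψ (R1 * R2)) = p (ψ (R1 * R2)) * p y0 := by
          rw [← mul_inv_eq_iff_eq_mul, ← map_inv, ← map_mul, ← map_mul, ← conjf_spec ψ hψ,
            map_mul, e1, e2]
        calc p (ψ (R1 * R2)) * p y0 * (p (ψ (R1 * R2)) * p y0)
            = p (ψ (R1 * R2)) * (p y0 * p (ψ (R1 * R2))) * p y0 := by group
          _ = p (ψ (R1 * R2)) * p (ψ (R1 * R2)) * (p y0 * p y0) := by rw [h1]; group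
          _ = p (ψ (R1 * R2)) := by
            rw [hyp, ← map_mul, ← map_mul, ← map_mul, ← map_mul,
              show R1 * R2 * (R1 * R2) * (R1 * R2) = R1 * R2 * Z by decide, map_mul ψ (R1 * R2),
              map_mul, hpZ, mul_one]
  let ρ : Wr →* G ⧸ K := p.comp ψ
  have hρ : ∀ u, p (ψ u) = ρ u := fun _ => rfl
  have hconj : ∀ u, p y * ρ u * (p y)⁻¹ = ρ (conjf ψ hψ y u) := fun u => by
    rw [← hρ, ← hρ, conjf_spec]; simp
  let Y := p y
  have yR1 : Y * ρ R1 = ρ R1 * Y := mul_inv_eq_iff_eq_mul.1 (by rw [hconj, f1])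
  have yR2 : Y * ρ R2 = ρ R2 * Y := mul_inv_eq_iff_eq_mul.1 (by rw [hconj, f2])
  have yS1 : Y * ρ S1 = ρ (S1 * R1) * Y := mul_inv_eq_iff_eq_mul.1 (by rw [hconj]; exact f3)
  have yS2 : Y * ρ S2 = ρ (S2 * R2) * Y := mul_inv_eq_iff_eq_mul.1 (by rw [hconj]; exact f4)
  have yW : ρ W * Y = Y * ρ W := by
    have hWW : ρ W * ρ W = 1 := by rw [← map_mul, show W * W = 1 by decide, map_one]
    calc ρ W * Y = ρ W * Y * (ρ W * ρ W) := by rw [hWW, mul_one]
      _ = ρ W * Y * ρ W * ρ W := by group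
      _ = Y * ρ W := by rw [show ρ W * Y * ρ W = Y from fW]
  have yy : Y * Y = ρ (R1 * R2) := fyy
  -- collect everything to the right
  have mm : ∀ u v, ρ u * ρ v = ρ (u * v) := fun u v => (map_mul ρ u v).symm
  have mm' : ∀ u v z, ρ u * (ρ v * z) = ρ (u * v) * z := fun u v z => by rw [← mul_assoc, mm]
  have ρZ : ρ Z = 1 := hpZ
  set Sb : Wr := ⟨sr 0, sr 0, true⟩ with hSb
  have ySb : Y * ρ Sb = ρ (S1 * R1 * (S2 * R2) * W) * Y := by
    rw [show Sb = S1 * S2 * W by decide]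
    simp only [map_mul]
    calc Y * (ρ S1 * ρ S2 * ρ W) = (Y * ρ S1) * ρ S2 * ρ W := by group
      _ = ρ (S1 * R1) * (Y * ρ S2) * ρ W := by rw [yS1]; group
      _ = ρ (S1 * R1) * ρ (S2 * R2) * (Y * ρ W) := by rw [yS2]; group
      _ = _ := by rw [← yW]; simp only [map_mul]; group
  have hR : Y ^ 4 = 1 := by
    rw [show Y ^ 4 = (Y * Y) * (Y * Y) by simp [pow_succ, mul_assoc], yy, mm,
      show R1 * R2 * (R1 * R2) = Z by decide, ρZ]
  have hS : ρ Sb * ρ Sb = 1 := by rw [mm, show Sb * Sb = 1 by decide, map_one]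
  have hSR : ρ Sb * Y * ρ Sb = Y⁻¹ := by
    refine eq_inv_of_mul_eq_one_left ?_
    calc ρ Sb * Y * ρ Sb * Y = ρ Sb * (Y * ρ Sb) * Y := by group
      _ = ρ Sb * ρ (S1 * R1 * (S2 * R2) * W) * (Y * Y) := by rw [ySb]; group
      _ = 1 := by rw [yy, mm, mm,
                    show Sb * (S1 * R1 * (S2 * R2) * W) * (R1 * R2) = Z by decide, ρZ]
  have hT : ρ S2 * ρ S2 = 1 := by rw [mm, show S2 * S2 = 1 by decide, map_one]
  have hR' : ρ S2 * Y * ρ S2 = ρ R2 * Y := by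
    rw [mul_assoc, yS2, mm', show S2 * (S2 * R2) = R2 by decide]
  have hS' : ρ S2 * ρ Sb * ρ S2 = ρ W := by
    rw [mm, mm, show S2 * Sb * S2 = W by decide]
  have hRR : Commute Y (ρ S2 * Y * ρ S2) := by
    rw [hR']
    exact Commute.mul_right yR2 (Commute.refl Y)
  have hRS : Commute Y (ρ S2 * ρ Sb * ρ S2) := by
    rw [hS']
    exact yW.symm
  have hSS : Commute (ρ Sb) (ρ S2 * ρ Sb * ρ S2) := by
    rw [hS']
    exact (Commute.map (show Commute Sb W from (show Sb * W = W * Sb by decide)) ρ)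
  obtain ⟨F, hF1, hF2, hF3⟩ := exists_hom Y (ρ Sb) (ρ S2) hR hS hSR hT hRR hRS hSS
  -- surjectivity
  have hY : Y ∈ F.range := ⟨_, hF1⟩
  have hS2m : ρ S2 ∈ F.range := ⟨_, hF3⟩
  have hWm : ρ W ∈ F.range := by
    rw [← hS']; exact mul_mem (mul_mem hS2m ⟨_, hF2⟩) hS2m
  have hS1m : ρ S1 ∈ F.range := by
    rw [show S1 = Sb * W * S2 by decide, map_mul, map_mul]
    exact mul_mem (mul_mem ⟨_, hF2⟩ hWm) hS2m
  have hR1m : ρ R1 ∈ F.range := by
    have h : ρ R2 ∈ F.range := by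
      have := mul_mem (hR' ▸ mul_mem (mul_mem hS2m hY) hS2m) (inv_mem hY)
      rwa [mul_inv_cancel_right] at this
    rw [show R1 = W * R2 * W by decide, map_mul, map_mul]
    exact mul_mem (mul_mem hWm h) hWm
  have hsurj : Function.Surjective F := fun q => by
    obtain ⟨g, rfl⟩ := QuotientGroup.mk'_surjective K q
    have hidx := (structure_normalizer ψ hψ h2 hr hne).1
    have hρm : ∀ u, ρ u ∈ F.range := range_hom_le ρ F.range hR1m hS1m hWm
    show p g ∈ F.range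
    by_cases hg : g ∈ ψ.range
    · obtain ⟨u, rfl⟩ := hg; exact hρm u
    · obtain ⟨u, hu⟩ := (mul_mem_iff_of_index_two hidx).2
        (iff_of_false hg (fun h => hy (inv_mem_iff.1 h)) : g ∈ ψ.range ↔ y⁻¹ ∈ ψ.range)
      rw [show g = ψ u * y by rw [hu, inv_mul_cancel_right], map_mul]
      exact mul_mem (hρm u) hY
  refine ⟨(MulEquiv.ofBijective F ((Nat.bijective_iff_surjective_and_card _).2 ⟨hsurj, ?_⟩)).symm⟩
  have hK2 : Nat.card K = 2 := by
    refine Nat.card_eq_two_iff.2 ⟨1, ⟨ψ Z, (hK _).2 (Or.inr rfl)⟩, ?_, ?_⟩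
    · intro h
      exact Z_ne_one (hψ ((congrArg Subtype.val h).symm.trans (map_one ψ).symm))
    · ext ⟨g, hg⟩
      simp only [Set.mem_insert_iff, Set.mem_singleton_iff, Set.mem_univ, iff_true]
      rcases (hK g).1 hg with rfl | rfl <;> simp
  have hcard := (structure_normalizer ψ hψ h2 hr hne).1
  have hG := card_mul_index ψ.range
  rw [hcard, ← Nat.card_congr (MonoidHom.ofInjective hψ).toEquiv, Wr.card] at hG
  have hQ := K.card_mul_index
  rw [hK2, index_eq_card] at hQ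
  rw [Wr.card]
  omega

end Quotient

end Cfsg.Agent.Lib.WrD8
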